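import Groth.Agent.FlatPurity.HeightOne
import Groth.Agent.Unram.Discriminant
import Groth.Agent.EtLocalLib.ComplCrit
import Groth.Agent.RegLocus.CplDescend
import Groth.Agent.RegLocus.SemilocalCpl
import Mathlib

/-!
# Flat quasi-finite local homomorphisms unramified in codimension one are unramified
-/

set_option autoImplicit false
set_option linter.style.haveILetI false

universe u

open IsLocalRing TensorProduct

namespace Groth.Agent.FlatPurity

/-- Over a local base, a finite free algebra whose differentials are killed outside a point of the base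
is etale there. -/
theorem not_mem_discr {A B : Type u} [CommRing A] [CommRing B] [Algebra A B] [Module.Finite A B] [Module.Free A B]
    {ι : Type*} [Fintype ι] [DecidableEq ι] (b : Module.Basis ι A B) (P : Ideal A) [P.IsPrime]
    (h : ∀ Q : Ideal B, Q.IsPrime → Q.comap (algebraMap A B) = P → ∃ t ∉ Q, ∀ ω : Ω[B⁄A], t • ω = 0) :
    Algebra.discr A b ∉ P := by
  let J := Module.annihilator B Ω[B⁄A]
  obtain ⟨a, haJ, haP⟩ : ∃ a : A, algebraMap A B a ∈ J ∧ a ∉ P := by
    by_contra! hall
    haveI : Algebra.IsIntegral A B := inferInstance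
    obtain ⟨Q, hQJ, hQ, hQP⟩ := Ideal.exists_ideal_over_prime_of_isIntegral P J fun a ha => hall a ha
    obtain ⟨t, htQ, ht⟩ := h Q hQ hQP
    exact htQ (hQJ (Module.mem_annihilator.2 ht))
  let R := Localization.Away a
  intro hmem
  have hu : IsUnit (Algebra.discr R (Algebra.TensorProduct.basis R b)) := by
    haveI : Algebra.FormallyUnramified R (R ⊗[A] B) := by
      letI : Algebra B (R ⊗[A] B) := Algebra.TensorProduct.rightAlgebra
      have e := (KaehlerDifferential.isBaseChange A R B (R ⊗[A] B)).equiv
      refine ⟨e.symm.toEquiv.subsingleton_congr.2 ⟨fun x y => ?_⟩⟩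
      have hz : ∀ x : R ⊗[A] Ω[B⁄A], x = 0 := by
        intro x
        induction x using TensorProduct.induction_on with
        | zero => rfl
        | add x y hx hy => rw [hx, hy, add_zero]
        | tmul r ω =>
          obtain ⟨v, hv⟩ := (IsLocalization.Away.algebraMap_isUnit (S := R) a).exists_left_inv
          rw [show r = (r * v) * algebraMap A R a by rw [mul_assoc, hv, mul_one], ← Algebra.commutes, ← Algebra.smul_def,
            TensorProduct.smul_tmul, ← algebraMap_smul B a ω, Module.mem_annihilator.1 haJ, TensorProduct.tmul_zero]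
      rw [hz x, hz y]
    haveI : Algebra.Etale R (R ⊗[A] B) := by
      haveI : Module.Finite R (R ⊗[A] B) := inferInstance
      haveI : Module.Free R (R ⊗[A] B) := inferInstance
      haveI : Module.FinitePresentation R (R ⊗[A] B) := Module.finitePresentation_of_projective R _
      haveI : Algebra.FinitePresentation R (R ⊗[A] B) := inferInstance
      exact Algebra.Etale.of_formallyUnramified_of_flat
    exact Unram.isUnit_discr_of_etale _
  rw [Unram.discr_baseChange] at hu
  obtain ⟨v, hv⟩ := hu.exists_right_inv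
  obtain ⟨⟨r, ⟨_, n, rfl⟩⟩, hr⟩ := IsLocalization.surj (Submonoid.powers a) v
  simp only at hr
  obtain ⟨⟨_, m, rfl⟩, hm⟩ := (IsLocalization.eq_iff_exists (Submonoid.powers a) R (x := Algebra.discr A b * r) (y := a ^ n)).1 (by
    rw [map_mul, ← hr, ← mul_assoc, hv, one_mul])
  simp only at hm
  have : a ^ m * a ^ n ∈ P := hm ▸ P.mul_mem_left _ (P.mul_mem_right _ hmem)
  rcases ‹P.IsPrime›.mem_or_mem this with h' | h' <;> exact haP (‹P.IsPrime›.mem_of_pow_mem _ h')

/-- heights do not grow under contraction along an integral extension -/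
theorem height_le_one_of_comap {A B : Type u} [CommRing A] [IsNoetherianRing A] [CommRing B] [IsNoetherianRing B] [Algebra A B]
    [Algebra.IsIntegral A B] {Q : Ideal B} [Q.IsPrime] (h : (Q.comap (algebraMap A B)).height ≤ 1) :
    Q.height ≤ 1 := by
  refine Ideal.height_le_iff.2 fun J hJ hlt => ?_
  haveI := hJ
  refine Order.lt_one_iff.2 (Ideal.height_eq_zero_iff.2 ⟨⟨hJ, bot_le⟩, fun K hK hKJ => ?_⟩)
  haveI := hK.1
  by_contra hle
  have hlt' : K < J := lt_of_le_of_ne hKJ fun he => hle he.ge
  obtain ⟨x, hxJ, hxK⟩ := SetLike.exists_of_lt hlt'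
  obtain ⟨y, hyQ, hyJ⟩ := SetLike.exists_of_lt hlt
  have e1 := Ideal.comap_lt_comap_of_integral_mem_sdiff (R := A) hKJ ⟨hxJ, hxK⟩ (Algebra.IsIntegral.isIntegral x)
  have e2 := Ideal.comap_lt_comap_of_integral_mem_sdiff (R := A) hlt.le ⟨hyQ, hyJ⟩ (Algebra.IsIntegral.isIntegral y)
  have := (two_le_height_of_lt_lt e1 e2).trans h
  norm_num at this

variable {R S : Type u} [CommRing R] [IsNoetherianRing R] [IsLocalRing R] [CommRing S] [IsNoetherianRing S]
  [IsLocalRing S] [Algebra R S] [IsLocalHom (algebraMap R S)]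

/-- a flat quasi-finite local homomorphism, of dimension at least two, unramified in height one -/
theorem formallyUnramified_of_height_one [Module.Flat R S] [Algebra.EssFiniteType R S]
    [Module.Finite R (S ⧸ (maximalIdeal R).map (algebraMap R S))]
    (hdim : (2 : WithBot ℕ∞) ≤ ringKrullDim S)
    (h : ∀ q : Ideal S, q.IsPrime → q.height = 1 → ∃ t ∉ q, ∀ ω : Ω[S⁄R], t • ω = 0) :
    Algebra.FormallyUnramified R S := by
  classical
  obtain ⟨θ⟩ := RegLocus.exists_cplMap R S (maximalIdeal R) (maximalIdeal S)
    (((local_hom_TFAE (algebraMap R S)).out 0 2).mp ‹IsLocalHom (algebraMap R S)›)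
  let A := AdicCompletion (maximalIdeal R) R
  let B := AdicCompletion (maximalIdeal S) S
  let ψ : A →+* B := θ.toRingHom
  have hψ : ψ.comp (algebraMap R A) = (algebraMap S B).comp (algebraMap R S) := RingHom.ext fun r =>
    (θ.commutes r).trans (IsScalarTower.algebraMap_apply R S B r)
  haveI hloc : IsLocalHom ψ := EtLocalLib.completion_isLocalHom ψ hψ
  haveI : IsNoetherianRing A := AdicNoeth.isNoetherianRing_adicCompletion _
  haveI : IsNoetherianRing B := AdicNoeth.isNoetherianRing_adicCompletion _
  have hflat := EtLocalLib.completion_flat ψ hψ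
  letI : Algebra A B := ψ.toAlgebra
  haveI : IsLocalHom (algebraMap A B) := hloc
  haveI : Module.Flat A B := hflat
  haveI : IsScalarTower R A B := IsScalarTower.of_algebraMap_eq fun r =>
    (IsScalarTower.algebraMap_apply R S B r).trans (RingHom.congr_fun hψ r).symm
  haveI : IsAdicComplete (maximalIdeal A) A := by
    rw [AdicCompletion.maximalIdeal_eq_map]; exact AdicCompletion.isAdicComplete_self _ (IsNoetherian.noetherian _)
  haveI : Module.FaithfullyFlat S B := Module.FaithfullyFlat.of_flat_of_isLocalHom
  set J := (maximalIdeal R).map (algebraMap R B)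
  have hJ : (maximalIdeal A).map (algebraMap A B) = J := by
    rw [AdicCompletion.maximalIdeal_eq_map, Ideal.map_map, ← IsScalarTower.algebraMap_eq]
  have happrox : ∀ (n : ℕ) (x : B), ∃ s : S, x - algebraMap S B s ∈ maximalIdeal B ^ n := fun n x => by
    obtain ⟨s, hs⟩ := RegLocus.exists_approx S n x
    exact ⟨s, by rw [AdicCompletion.maximalIdeal_eq_map]; exact hs⟩
  -- the fibre
  set I := (maximalIdeal R).map (algebraMap R S) with hI
  have hIB : I.map (algebraMap S B) = J := by rw [hI, Ideal.map_map, ← IsScalarTower.algebraMap_eq]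
  obtain ⟨N, hN⟩ : ∃ N, maximalIdeal S ^ N ≤ I := by
    haveI : IsArtinianRing (S ⧸ I) := by
      haveI : Module.Finite (R ⧸ maximalIdeal R) (S ⧸ I) := Module.Finite.of_restrictScalars_finite R _ _
      letI := Ideal.Quotient.field (maximalIdeal R)
      exact isArtinian_of_tower (R ⧸ maximalIdeal R) inferInstance
    obtain ⟨N, hN⟩ := (IsArtinianRing.isNilpotent_jacobson_bot (R := S ⧸ I))
    refine ⟨N, fun x hx => ?_⟩
    rw [← Ideal.Quotient.eq_zero_iff_mem]
    have hle : (maximalIdeal S).map (Ideal.Quotient.mk I) ≤ Ideal.jacobson ⊥ := by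
      refine le_sInf fun M hM => ?_
      haveI := hM.2
      haveI : (M.comap (Ideal.Quotient.mk I)).IsMaximal := Ideal.comap_isMaximal_of_surjective _ Ideal.Quotient.mk_surjective
      rw [Ideal.map_le_iff_le_comap, IsLocalRing.eq_maximalIdeal (inferInstance : (M.comap (Ideal.Quotient.mk I)).IsMaximal)]
    have h' := Ideal.pow_right_mono hle N (by rw [← Ideal.map_pow]; exact Ideal.mem_map_of_mem _ hx)
    rwa [hN, Ideal.zero_eq_bot, Ideal.mem_bot] at h'
  haveI : Module.Finite A B := by
    haveI : IsHausdorff (maximalIdeal A) B := ⟨fun x hx => IsHausdorff.haus' (I := maximalIdeal B) x fun n => by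
      have h := hx n
      rw [SModEq.zero] at h ⊢
      have h' := FlatCrit.mem_map_smul_top (S := B) h
      rw [Ideal.map_pow, hJ] at h'
      rw [smul_eq_mul, Ideal.mul_top] at h' ⊢
      refine Ideal.pow_right_mono ?_ n h'
      rw [← hJ]
      exact ((local_hom_TFAE (algebraMap A B)).out 0 2).mp hloc⟩
    refine CAlgCompl.finite_of_finite_quotient (maximalIdeal A) B ?_
    haveI : Module.Finite R (B ⧸ (maximalIdeal A • ⊤ : Submodule A B)) := by
      let g : S →ₗ[R] B ⧸ (maximalIdeal A • ⊤ : Submodule A B) :=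
        ((maximalIdeal A • ⊤ : Submodule A B).mkQ.restrictScalars R).comp
          (IsScalarTower.toAlgHom R S B).toLinearMap
      have hker : (I.restrictScalars R) ≤ LinearMap.ker g := fun s hs => by
        refine (Submodule.Quotient.mk_eq_zero _).2 ?_
        rw [Ideal.smul_top_eq_map]
        show algebraMap S B s ∈ (maximalIdeal A).map (algebraMap A B)
        rw [hJ, ← hIB]
        exact Ideal.mem_map_of_mem _ hs
      haveI : Module.Finite R (S ⧸ I.restrictScalars R) :=
        Module.Finite.equiv (Submodule.Quotient.restrictScalarsEquiv R I).symm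
      refine Module.Finite.of_surjective ((I.restrictScalars R).liftQ g hker) fun y => ?_
      · obtain ⟨x, rfl⟩ := Submodule.Quotient.mk_surjective _ y
        obtain ⟨s, hs⟩ := happrox N x
        refine ⟨Submodule.Quotient.mk s, ?_⟩
        symm
        refine (Submodule.Quotient.eq _).2 ?_
        rw [Ideal.smul_top_eq_map]
        show x - algebraMap S B s ∈ (maximalIdeal A).map (algebraMap A B)
        rw [hJ, ← hIB]
        refine Ideal.map_mono hN ?_
        rwa [Ideal.map_pow, ← AdicCompletion.maximalIdeal_eq_map]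
    exact Module.Finite.of_restrictScalars_finite R A _
  haveI : Module.Free A B := Module.free_of_flat_of_isLocalRing
  let b := Module.Free.chooseBasis A B
  by_contra hnot
  have hD : Algebra.discr A b ∈ maximalIdeal A := by
    by_contra hD
    haveI : Algebra.Etale A B := Unram.etale_of_isUnit_discr b (by simpa using hD)
    have h' := (EtLocalLib.completion_etale_iff ψ hψ).2 (show ψ.Etale from (RingHom.etale_algebraMap (R := A) (S := B)).2 inferInstance)
    haveI : Algebra.IsSeparable (ResidueField R) (ResidueField S) := h'.2.2.2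
    exact hnot (Algebra.FormallyUnramified.of_map_maximalIdeal h'.2.1)
  have hdimA : (2 : WithBot ℕ∞) ≤ ringKrullDim A := by
    have h1 : ringKrullDim B = ringKrullDim S := CAlgCompl.ringKrullDim_adicCompletion S
    rw [← h1] at hdim
    refine hdim.trans ?_
    rw [← IsLocalRing.maximalIdeal_height_eq_ringKrullDim, ← IsLocalRing.maximalIdeal_height_eq_ringKrullDim]
    refine WithBot.coe_le_coe.2 ?_
    haveI : (maximalIdeal B).LiesOver (maximalIdeal A) := ⟨(IsLocalRing.eq_maximalIdeal
      (Ideal.isMaximal_comap_of_isIntegral_of_isMaximal (maximalIdeal B))).symm⟩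
    refine (Ideal.height_le_height_add_of_liesOver (maximalIdeal A) (maximalIdeal B)).trans (le_of_eq ?_)
    suffices ((maximalIdeal B).map (Ideal.Quotient.mk ((maximalIdeal A).map (algebraMap A B)))).height = 0 by
      rw [this, add_zero]
    haveI hp : ((maximalIdeal B).map (Ideal.Quotient.mk ((maximalIdeal A).map (algebraMap A B)))).IsPrime :=
      Ideal.isPrime_map_quotientMk_of_isPrime (((local_hom_TFAE (algebraMap A B)).out 0 2).mp hloc)
    haveI : IsArtinianRing (B ⧸ (maximalIdeal A).map (algebraMap A B)) := by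
      haveI : Module.Finite (A ⧸ maximalIdeal A) (B ⧸ (maximalIdeal A).map (algebraMap A B)) := Module.Finite.of_restrictScalars_finite A _ _
      letI := Ideal.Quotient.field (maximalIdeal A)
      exact isArtinian_of_tower (A ⧸ maximalIdeal A) inferInstance
    rw [Ideal.height_eq_zero_iff]
    refine ⟨⟨hp, bot_le⟩, fun K hK hle => ?_⟩
    haveI := hK.1
    exact ((IsArtinianRing.isMaximal_of_isPrime K).eq_of_le hp.ne_top hle).ge
  obtain ⟨P, hP, hDP, hP1⟩ := exists_height_one_mem hdimA hD
  refine not_mem_discr b P (fun Q hQ hQP => ?_) hDP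
  haveI := hQ
  set q := Q.comap (algebraMap S B) with hq
  haveI : q.IsPrime := hQ.comap _
  haveI : Q.LiesOver q := ⟨rfl⟩
  have hQ1 : Q.height ≤ 1 := height_le_one_of_comap (A := A) (hQP ▸ hP1.le)
  have hq1 : q.height ≤ 1 := by
    refine le_trans ?_ hQ1
    rw [Ideal.height_eq_height_add_of_liesOver_of_hasGoingDown q Q]
    exact le_self_add
  obtain ⟨q', hq', hqq', hh⟩ : ∃ q' : Ideal S, q'.IsPrime ∧ q ≤ q' ∧ q'.height = 1 := by
    rcases hq1.lt_or_eq with hlt | heq
    swap
    · exact ⟨q, inferInstance, le_rfl, heq⟩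
    have hq0 : q ∈ minimalPrimes S := Ideal.height_eq_zero_iff.1 (Order.lt_one_iff.1 hlt)
    have hm2 : (2 : ℕ∞) ≤ (maximalIdeal S).height := by
      rw [← IsLocalRing.maximalIdeal_height_eq_ringKrullDim] at hdim
      exact WithBot.coe_le_coe.1 hdim
    have hqm : q < maximalIdeal S := lt_of_le_of_ne (IsLocalRing.le_maximalIdeal (inferInstance : q.IsPrime).ne_top) fun he => by
      have := hm2.trans (he ▸ hq1)
      norm_num at this
    obtain ⟨a, ham, haq⟩ := SetLike.exists_of_lt hqm
    obtain ⟨X, hX, hXm⟩ := Ideal.exists_minimalPrimes_le (I := q ⊔ Ideal.span {a}) (J := maximalIdeal S)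
      (sup_le hqm.le ((Ideal.span_singleton_le_iff_mem _).2 ham))
    haveI := hX.1.1
    have hqX : q < X := lt_of_le_of_ne (le_sup_left.trans hX.1.2) fun he =>
      haq (he ▸ hX.1.2 (Ideal.mem_sup_right (Ideal.mem_span_singleton_self a)))
    rcases eq_or_lt_of_le hXm with he | hlt'
    swap
    · exact exists_height_one_over hq0 hqX hlt'
    exfalso
    have hQm : Q < maximalIdeal B := lt_of_le_of_ne (IsLocalRing.le_maximalIdeal hQ.ne_top) fun hQm => by
      have hh : (maximalIdeal B).comap (algebraMap S B) = maximalIdeal S := ((local_hom_TFAE (algebraMap S B)).out 0 4).mp (inferInstance : IsLocalHom (algebraMap S B))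
      exact hqm.ne (by rw [hq, hQm, hh])
    have hQpos : Q.height ≠ 0 := fun h0 => by
      have hPh : P.height ≤ Q.height := by
        haveI : Q.LiesOver P := ⟨hQP.symm⟩
        rw [Ideal.height_eq_height_add_of_liesOver_of_hasGoingDown P Q]
        exact le_self_add
      rw [hP1, h0] at hPh
      exact absurd hPh (by norm_num)
    obtain ⟨Q₀, hQ₀, hQ₀Q⟩ := Ideal.exists_minimalPrimes_le (I := (⊥ : Ideal B)) (J := Q) bot_le
    haveI := hQ₀.1.1
    have hlt₀ : Q₀ < Q := lt_of_le_of_ne hQ₀Q fun he => hQpos (Ideal.height_eq_zero_iff.2 (he ▸ hQ₀))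
    have hQ₀q : q ≤ Q₀.comap (algebraMap S B) :=
      hq0.2 ⟨Ideal.IsPrime.comap _, bot_le⟩ (Ideal.comap_mono hQ₀Q)
    let π := Ideal.Quotient.mk Q₀
    haveI : (Q.map π).IsPrime := Ideal.isPrime_map_quotientMk_of_isPrime hlt₀.le
    haveI : ((maximalIdeal B).map π).IsPrime := Ideal.isPrime_map_quotientMk_of_isPrime (hlt₀.trans hQm).le
    have e1 : (⊥ : Ideal (B ⧸ Q₀)) < Q.map π := by
      rw [bot_lt_iff_ne_bot, Ne, Ideal.map_eq_bot_iff_le_ker, Ideal.mk_ker]; exact hlt₀.not_ge
    have e2 : Q.map π < (maximalIdeal B).map π := by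
      refine lt_of_le_of_ne (Ideal.map_mono hQm.le) fun hXm => hQm.not_ge fun x hx => ?_
      have := hXm.symm ▸ Ideal.mem_map_of_mem π hx
      rwa [Ideal.mem_quotient_iff_mem hlt₀.le] at this
    have h3 : ((maximalIdeal B).map π).height ≤ 1 := by
      refine Ideal.height_le_one_of_isPrincipal_of_mem_minimalPrimes (Ideal.span {π (algebraMap S B a)}) _ ⟨⟨inferInstance, ?_⟩, ?_⟩
      · rw [Ideal.span_singleton_le_iff_mem]
        refine Ideal.mem_map_of_mem _ ?_
        rw [AdicCompletion.maximalIdeal_eq_map]; exact Ideal.mem_map_of_mem _ ham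
      · rintro Z ⟨hZ, hZa⟩ -
        haveI := hZ
        rw [Ideal.map_le_iff_le_comap]
        have hle : q ⊔ Ideal.span {a} ≤ (Z.comap π).comap (algebraMap S B) := by
          refine sup_le (hQ₀q.trans (Ideal.comap_mono fun x hx => ?_)) ((Ideal.span_singleton_le_iff_mem _).2
            (show π (algebraMap S B a) ∈ Z from (Ideal.span_singleton_le_iff_mem (I := Z) (x := π (algebraMap S B a))).1 hZa))
          rw [Ideal.mem_comap, Ideal.Quotient.eq_zero_iff_mem.2 hx]; exact Z.zero_mem
        haveI : (Z.comap π).IsPrime := hZ.comap π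
        haveI hp' : ((Z.comap π).comap (algebraMap S B)).IsPrime := Ideal.IsPrime.comap (algebraMap S B)
        have hmS : maximalIdeal S ≤ (Z.comap π).comap (algebraMap S B) := by
          have h1 := hX.2 ⟨hp', hle⟩ (by rw [he]; exact IsLocalRing.le_maximalIdeal hp'.ne_top)
          rwa [he] at h1
        rw [AdicCompletion.maximalIdeal_eq_map, Ideal.map_le_iff_le_comap]
        exact hmS
    have := (two_le_height_of_lt_lt e1 e2).trans h3
    norm_num at this
  obtain ⟨t, ht, htω⟩ := h q' hq' hh
  refine ⟨algebraMap S B t, fun hmem => ht (hqq' hmem), ?_⟩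
  let M : Submodule B Ω[B⁄A] :=
    { carrier := {ω | algebraMap S B t • ω = 0}
      zero_mem' := smul_zero _
      add_mem' := fun {x y} hx hy => by simp_all [smul_add]
      smul_mem' := fun c x hx => by
        show algebraMap S B t • c • x = 0
        rw [smul_comm, show algebraMap S B t • x = 0 from hx, smul_zero] }
  haveI : SMulCommClass A S B := SMulCommClass.of_commMonoid A S B
  have hds : ∀ s, KaehlerDifferential.D A B (algebraMap S B s) ∈ M := fun s => by
    show algebraMap S B t • _ = 0
    have := congrArg (KaehlerDifferential.map R A S B) (htω (KaehlerDifferential.D R S s))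
    rw [map_smul, map_zero, KaehlerDifferential.map_D, ← algebraMap_smul B t] at this
    exact this
  have htop : M ⊔ maximalIdeal B • ⊤ = ⊤ := by
    rw [eq_top_iff, ← KaehlerDifferential.span_range_derivation A B, Submodule.span_le]
    rintro _ ⟨x, rfl⟩
    obtain ⟨s, hs⟩ := happrox 2 x
    rw [show x = algebraMap S B s + (x - algebraMap S B s) by ring, map_add]
    refine Submodule.add_mem_sup (hds s) ?_
    rw [pow_two] at hs
    refine Submodule.mul_induction_on hs (fun y hy z hz => ?_) (fun y z hy hz => ?_)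
    · rw [Derivation.leibniz]
      exact add_mem (Submodule.smul_mem_smul hy (by rw [KaehlerDifferential.span_range_derivation]; exact Submodule.mem_top)) (Submodule.smul_mem_smul hz (by rw [KaehlerDifferential.span_range_derivation]; exact Submodule.mem_top))
    · rw [map_add]; exact add_mem hy hz
  haveI : Module.Finite B Ω[B⁄A] := inferInstance
  have := Submodule.le_of_le_smul_of_le_jacobson_bot (I := maximalIdeal B) (N := M) (N' := ⊤) Module.Finite.fg_top
    (IsLocalRing.jacobson_eq_maximalIdeal ⊥ bot_ne_top).ge htop.ge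
  exact fun ω => this Submodule.mem_top

end Groth.Agent.FlatPurity
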