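import Mathlib

/-!
# Existence of primes of height one
-/

set_option autoImplicit false
set_option linter.style.haveILetI false

universe u

namespace Groth.Agent.FlatPurity

open IsLocalRing

theorem one_le_height_of_lt {R : Type u} [CommRing R] {p q : Ideal R} [p.IsPrime] [q.IsPrime] (h : p < q) :
    1 ≤ q.height := by
  rw [Order.one_le_iff_ne_zero, Ne, Ideal.height_eq_zero_iff]
  exact fun hq => h.ne (le_antisymm h.le (hq.2 ⟨‹p.IsPrime›, bot_le⟩ h.le))

/-- a prime with a prime strictly inside and strictly below the maximal ideal: height two -/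
theorem two_le_height_of_lt_lt {R : Type u} [CommRing R] [IsNoetherianRing R] {p q r : Ideal R} [p.IsPrime] [q.IsPrime]
    [r.IsPrime] (h₁ : p < q) (h₂ : q < r) : 2 ≤ r.height := by
  have h := one_le_height_of_lt h₁
  have h' : q.height < r.height := Ideal.height_strict_mono_of_isPrime_of_isPrime h₂
  calc (2 : ℕ∞) = 1 + 1 := rfl
    _ ≤ q.height + 1 := by gcongr
    _ ≤ r.height := Order.add_one_le_of_lt h'

variable {R : Type u} [CommRing R] [IsNoetherianRing R] [IsLocalRing R]

/-- A minimal prime with room above it lies in a prime of height one. -/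
theorem exists_height_one_over {P₀ X : Ideal R} (h₀ : P₀ ∈ minimalPrimes R) [X.IsPrime]
    (h₁ : P₀ < X) (h₂ : X < maximalIdeal R) : ∃ P : Ideal R, P.IsPrime ∧ P₀ ≤ P ∧ P.height = 1 := by
  classical
  haveI := h₀.1.1
  let K := R ⧸ P₀
  let π := Ideal.Quotient.mk P₀
  have hfin : (minimalPrimes R).Finite := minimalPrimes.finite_of_isNoetherianRing R
  have : ∀ q : {q // q ∈ hfin.toFinset.erase P₀}, ∃ z ∈ (q : Ideal R), z ∉ P₀ := fun q => by
    obtain ⟨hne, hq⟩ := Finset.mem_erase.1 q.2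
    exact SetLike.not_le_iff_exists.1 fun hle => hne (le_antisymm hle (h₀.2 (hfin.mem_toFinset.1 hq).1 hle))
  choose z hz hz₀ using this
  set b := ∏ q, z q with hbdef
  have hb : b ∉ P₀ := fun h => by
    obtain ⟨q, -, h'⟩ := (h₀.1.1.prod_mem_iff).1 h
    exact hz₀ q h'
  let S := (P₀ ⊔ Ideal.span {b}).minimalPrimes
  -- if `b` is a unit the set is empty
  have hS : S.Finite := Ideal.finite_minimalPrimes_of_isNoetherianRing _ _
  have hgood : ∀ a : R, ∀ P ∈ (P₀ ⊔ Ideal.span {a}).minimalPrimes, (P.map π).height ≤ 1 := by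
    intro a P hP
    haveI := hP.1.1
    have hle : P₀ ≤ P := le_sup_left.trans hP.1.2
    haveI : (P.map π).IsPrime := Ideal.isPrime_map_quotientMk_of_isPrime hle
    refine Ideal.height_le_one_of_isPrincipal_of_mem_minimalPrimes (Ideal.span {π a}) _ ⟨⟨inferInstance, ?_⟩, ?_⟩
    · rw [Ideal.span_singleton_le_iff_mem]
      exact Ideal.mem_map_of_mem _ (hP.1.2 (Ideal.mem_sup_right (Ideal.mem_span_singleton_self a)))
    · rintro Q ⟨hQ, hQa⟩ hQP
      have hle' : P₀ ⊔ Ideal.span {a} ≤ Q.comap π := sup_le (fun x hx => by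
        rw [Ideal.mem_comap, Ideal.Quotient.eq_zero_iff_mem.2 hx]; exact Q.zero_mem)
        ((Ideal.span_singleton_le_iff_mem _).2 (show π a ∈ Q from (Ideal.span_singleton_le_iff_mem (I := Q) (x := π a)).1 hQa))
      have hQP' : Q.comap π ≤ P := fun x hx => by
        have := hQP (show π x ∈ Q from hx)
        rwa [Ideal.mem_quotient_iff_mem hle] at this
      have := hP.2 ⟨hQ.comap π, hle'⟩ hQP'
      exact Ideal.map_le_iff_le_comap.2 this
  have hne : ∀ P ∈ S, P ≠ maximalIdeal R := by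
    intro P hP he
    haveI := hP.1.1
    haveI : (X.map π).IsPrime := Ideal.isPrime_map_quotientMk_of_isPrime h₁.le
    haveI : ((maximalIdeal R).map π).IsPrime := Ideal.isPrime_map_quotientMk_of_isPrime (h₁.trans h₂).le
    have e1 : (⊥ : Ideal K) < X.map π := by
      rw [bot_lt_iff_ne_bot, Ne, Ideal.map_eq_bot_iff_le_ker, Ideal.mk_ker]
      exact h₁.not_ge
    have e2 : X.map π < (maximalIdeal R).map π := by
      refine lt_of_le_of_ne (Ideal.map_mono h₂.le) fun hXm => h₂.not_ge fun x hx => ?_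
      have := hXm.symm ▸ Ideal.mem_map_of_mem π hx
      rwa [Ideal.mem_quotient_iff_mem h₁.le] at this
    have := two_le_height_of_lt_lt e1 e2
    have := this.trans (he ▸ hgood b P hP)
    norm_num at this
  obtain ⟨a, ha, haS⟩ : ∃ a ∈ maximalIdeal R, ∀ P ∈ insert P₀ S, a ∉ P := by
    by_contra! h
    have hsub : (maximalIdeal R : Set R) ⊆ ⋃ P ∈ (↑(insert P₀ hS.toFinset) : Set (Ideal R)), (P : Set R) := fun a ha => by
      obtain ⟨P, hP, haP⟩ := h a ha
      exact Set.mem_biUnion (by simpa using hP) haP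
    have hpr : ∀ P ∈ insert P₀ hS.toFinset, P.IsPrime ∧ P ≠ maximalIdeal R := fun P hP => by
      rcases Finset.mem_insert.1 hP with rfl | hP
      · exact ⟨h₀.1.1, (h₁.trans h₂).ne⟩
      · exact ⟨(hS.mem_toFinset.1 hP).1.1, hne P (hS.mem_toFinset.1 hP)⟩
    obtain ⟨P, hP, hle⟩ := (Ideal.subset_union_prime ⊥ ⊥ fun P hP _ _ => (hpr P hP).1).1 hsub
    exact (hpr P hP).2 (((maximalIdeal.isMaximal R).eq_of_le (hpr P hP).1.ne_top hle).symm)
  obtain ⟨P, hP, -⟩ := Ideal.exists_minimalPrimes_le (I := P₀ ⊔ Ideal.span {a}) (J := maximalIdeal R)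
    (sup_le (h₁.trans h₂).le ((Ideal.span_singleton_le_iff_mem _).2 ha))
  haveI := hP.1.1
  have hP₀ : P₀ ≤ P := le_sup_left.trans hP.1.2
  refine ⟨P, hP.1.1, hP₀, ?_⟩
  have hbP : b ∉ P := by
    intro hbP
    obtain ⟨Q, hQ, hQP⟩ := Ideal.exists_minimalPrimes_le (I := P₀ ⊔ Ideal.span {b}) (J := P)
      (sup_le hP₀ ((Ideal.span_singleton_le_iff_mem _).2 hbP))
    haveI := hQ.1.1
    have hne' : Q ≠ P := fun h => haS Q (Set.mem_insert_of_mem _ hQ) (h ▸ hP.1.2 (Ideal.mem_sup_right (Ideal.mem_span_singleton_self a)))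
    have hQ₀ : P₀ ≤ Q := le_sup_left.trans hQ.1.2
    haveI : (Q.map π).IsPrime := Ideal.isPrime_map_quotientMk_of_isPrime hQ₀
    haveI : (P.map π).IsPrime := Ideal.isPrime_map_quotientMk_of_isPrime hP₀
    have e1 : (⊥ : Ideal K) < Q.map π := by
      rw [bot_lt_iff_ne_bot, Ne, Ideal.map_eq_bot_iff_le_ker, Ideal.mk_ker]
      exact fun h => hb (h (hQ.1.2 (Ideal.mem_sup_right (Ideal.mem_span_singleton_self b))))
    have e2 : Q.map π < P.map π := by
      refine lt_of_le_of_ne (Ideal.map_mono hQP) fun h => hne' (le_antisymm hQP fun x hx => ?_)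
      have := h.symm ▸ Ideal.mem_map_of_mem π hx
      rwa [Ideal.mem_quotient_iff_mem hQ₀] at this
    have := (two_le_height_of_lt_lt e1 e2).trans (hgood a P hP)
    norm_num at this
  have huniq : ∀ q ∈ minimalPrimes R, q ≤ P → q = P₀ := by
    intro q hq hqP
    by_contra h
    exact hbP (hqP (Ideal.mem_of_dvd _ (Finset.dvd_prod_of_mem z (Finset.mem_univ ⟨q, Finset.mem_erase.2 ⟨h, hfin.mem_toFinset.2 hq⟩⟩))
      (hz ⟨q, Finset.mem_erase.2 ⟨h, hfin.mem_toFinset.2 hq⟩⟩)))
  refine le_antisymm (Ideal.height_le_iff.2 fun J hJ hlt => ?_) ?_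
  · -- strictly smaller primes are minimal
    haveI := hJ
    obtain ⟨q, hq, hqJ⟩ := Ideal.exists_minimalPrimes_le (I := (⊥ : Ideal R)) (J := J) bot_le
    obtain rfl := huniq q hq (hqJ.trans hlt.le)
    have hJq : J = q := by
      by_contra hne'
      haveI : (J.map π).IsPrime := Ideal.isPrime_map_quotientMk_of_isPrime hqJ
      haveI : (P.map π).IsPrime := Ideal.isPrime_map_quotientMk_of_isPrime hP₀
      have e1 : (⊥ : Ideal K) < J.map π := by
        rw [bot_lt_iff_ne_bot, Ne, Ideal.map_eq_bot_iff_le_ker, Ideal.mk_ker]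
        exact fun h => hne' (le_antisymm h hqJ)
      have e2 : J.map π < P.map π := by
        refine lt_of_le_of_ne (Ideal.map_mono hlt.le) fun h => hlt.not_ge fun x hx => ?_
        have := h.symm ▸ Ideal.mem_map_of_mem π hx
        rwa [Ideal.mem_quotient_iff_mem hqJ] at this
      have := (two_le_height_of_lt_lt e1 e2).trans (hgood a P hP)
      norm_num at this
    rw [hJq, Ideal.height_eq_zero_iff.2 h₀]
    exact zero_lt_one
  · refine one_le_height_of_lt (p := P₀) (lt_of_le_of_ne hP₀ fun h => ?_)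
    subst h
    exact haS _ (Set.mem_insert _ _) (hP.1.2 (Ideal.mem_sup_right (Ideal.mem_span_singleton_self a)))

/-- In a Noetherian local ring of dimension at least two, every non-unit lies in a prime of height one. -/
theorem exists_height_one_mem (hdim : (2 : WithBot ℕ∞) ≤ ringKrullDim R) {D : R} (hD : D ∈ maximalIdeal R) :
    ∃ P : Ideal R, P.IsPrime ∧ D ∈ P ∧ P.height = 1 := by
  classical
  have hle1 : ∀ P ∈ (Ideal.span {D}).minimalPrimes, P.height ≤ 1 := fun P hP => by
    haveI := hP.1.1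
    exact Ideal.height_le_one_of_isPrincipal_of_mem_minimalPrimes _ _ hP
  by_contra! hcon
  have h0 : ∀ P ∈ (Ideal.span {D}).minimalPrimes, P ∈ minimalPrimes R := fun P hP => by
    haveI := hP.1.1
    rw [← Ideal.height_eq_zero_iff]
    have := hcon P hP.1.1 ((Ideal.span_singleton_le_iff_mem _).1 hP.1.2)
    exact Order.lt_one_iff.1 (lt_of_le_of_ne (hle1 P hP) this)
  obtain ⟨P', hP', X, hX, h₁, h₂⟩ : ∃ P' ∈ minimalPrimes R, ∃ X : Ideal R, X.IsPrime ∧ P' < X ∧ X < maximalIdeal R := by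
    have hm : (2 : ℕ∞) ≤ (maximalIdeal R).height := by
      rw [← IsLocalRing.maximalIdeal_height_eq_ringKrullDim] at hdim
      exact WithBot.coe_le_coe.1 hdim
    by_contra! h
    have : (maximalIdeal R).height ≤ 1 := by
      refine Ideal.height_le_iff.2 fun J hJ hlt => ?_
      haveI := hJ
      obtain ⟨q, hq, hqJ⟩ := Ideal.exists_minimalPrimes_le (I := (⊥ : Ideal R)) (J := J) bot_le
      rcases eq_or_lt_of_le hqJ with he | hlt'
      · rw [← he]
        haveI := hq.1.1
        rw [Ideal.height_eq_zero_iff.2 hq]; exact zero_lt_one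
      · exact absurd hlt (h q hq J hJ hlt')
    exact absurd (hm.trans this) (by norm_num)
  haveI := hP'.1.1
  -- find a minimal prime containing `D` with room above it
  obtain ⟨P₀, hP₀, hDP₀, X₀, hX₀, e₁, e₂⟩ : ∃ P₀ ∈ minimalPrimes R, D ∈ P₀ ∧ ∃ X : Ideal R, X.IsPrime ∧ P₀ < X ∧ X < maximalIdeal R := by
    by_cases hD' : D ∈ P'
    · exact ⟨P', hP', hD', X, hX, h₁, h₂⟩
    obtain ⟨Q, hQ, -⟩ := Ideal.exists_minimalPrimes_le (I := P' ⊔ Ideal.span {D}) (J := maximalIdeal R)
      (sup_le (h₁.trans h₂).le ((Ideal.span_singleton_le_iff_mem _).2 hD))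
    haveI := hQ.1.1
    have hQm : Q ≠ maximalIdeal R := by
      intro he
      let π := Ideal.Quotient.mk P'
      haveI : (X.map π).IsPrime := Ideal.isPrime_map_quotientMk_of_isPrime h₁.le
      haveI : ((maximalIdeal R).map π).IsPrime := Ideal.isPrime_map_quotientMk_of_isPrime (h₁.trans h₂).le
      have e1 : (⊥ : Ideal (R ⧸ P')) < X.map π := by
        rw [bot_lt_iff_ne_bot, Ne, Ideal.map_eq_bot_iff_le_ker, Ideal.mk_ker]; exact h₁.not_ge
      have e2 : X.map π < (maximalIdeal R).map π := by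
        refine lt_of_le_of_ne (Ideal.map_mono h₂.le) fun hXm => h₂.not_ge fun x hx => ?_
        have := hXm.symm ▸ Ideal.mem_map_of_mem π hx
        rwa [Ideal.mem_quotient_iff_mem h₁.le] at this
      have h3 : ((maximalIdeal R).map π).height ≤ 1 := by
        refine Ideal.height_le_one_of_isPrincipal_of_mem_minimalPrimes (Ideal.span {π D}) _ ⟨⟨inferInstance, ?_⟩, ?_⟩
        · rw [Ideal.span_singleton_le_iff_mem]; exact Ideal.mem_map_of_mem _ hD
        · rintro Z ⟨hZ, hZD⟩ -
          refine Ideal.map_le_iff_le_comap.2 (he ▸ hQ.2 ⟨hZ.comap π, sup_le (fun x hx => ?_) ?_⟩ ?_)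
          · rw [Ideal.mem_comap, Ideal.Quotient.eq_zero_iff_mem.2 hx]; exact Z.zero_mem
          · exact (Ideal.span_singleton_le_iff_mem _).2 (show π D ∈ Z from (Ideal.span_singleton_le_iff_mem (I := Z) (x := π D)).1 hZD)
          · rw [he]; exact IsLocalRing.le_maximalIdeal (hZ.comap π).ne_top
      have := (two_le_height_of_lt_lt e1 e2).trans h3
      norm_num at this
    obtain ⟨P, hP, hPQ⟩ := Ideal.exists_minimalPrimes_le (I := Ideal.span {D}) (J := Q) (le_sup_right.trans hQ.1.2)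
    refine ⟨P, h0 P hP, (Ideal.span_singleton_le_iff_mem _).1 hP.1.2, Q, hQ.1.1, lt_of_le_of_ne hPQ fun he => hD' ?_,
      lt_of_le_of_ne (IsLocalRing.le_maximalIdeal hQ.1.1.ne_top) hQm⟩
    have hQmin : Q ∈ minimalPrimes R := he ▸ h0 P hP
    have : Q ≤ P' := hQmin.2 hP'.1 (le_sup_left.trans hQ.1.2)
    exact this (he ▸ (Ideal.span_singleton_le_iff_mem _).1 hP.1.2)
  haveI := hX₀
  obtain ⟨P, hP, hle, h⟩ := exists_height_one_over hP₀ e₁ e₂
  exact hcon P hP (hle hDP₀) h

end Groth.Agent.FlatPurity
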