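import Groth.Agent.FlatPurity.Core
import Groth.Agent.EtLocalLib.StalkCrit

/-!
# Flat morphisms unramified in codimension one at quasi-finite points
-/

set_option autoImplicit false
set_option linter.style.haveILetI false

universe u

open CategoryTheory AlgebraicGeometry IsLocalRing TensorProduct

namespace Groth.Agent.FlatPurity

theorem formallyUnramified_stalkMap {X Y : Scheme.{u}} (f : X ⟶ Y) [LocallyOfFiniteType f] [Flat f]
    [IsLocallyNoetherian X] [IsLocallyNoetherian Y] (x : X) (hq : f.QuasiFiniteAt x)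
    (hdim1 : (1 : WithBot ℕ∞) ≤ ringKrullDim (X.presheaf.stalk x))
    (hunr : ∀ x' : X, x' ⤳ x → ringKrullDim (X.presheaf.stalk x') = 1 →
      (f.stalkMap x').hom.FormallyUnramified) :
    (f.stalkMap x).hom.FormallyUnramified := by
  rcases eq_or_lt_of_le hdim1 with hd | hd
  · exact hunr x (specializes_refl x) hd.symm
  obtain ⟨U, hU, V, hV, hVU, hxV⟩ := Unram.exists_chart f x
  letI : Algebra Γ(Y, U) Γ(X, V) := (f.appLE U V hVU).hom.toAlgebra
  haveI : Algebra.FiniteType Γ(Y, U) Γ(X, V) := f.finiteType_appLE hU hV hVU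
  haveI := IsLocallyNoetherian.component_noetherian (X := Y) ⟨U, hU⟩
  haveI : IsNoetherianRing Γ(X, V) := IsLocallyNoetherian.component_noetherian (X := X) ⟨V, hV⟩
  let p := (hU.primeIdealOf ⟨f x, hVU hxV⟩).asIdeal
  let q := (hV.primeIdealOf ⟨x, hxV⟩).asIdeal
  haveI : q.LiesOver p := ⟨congr($(IsAffineOpen.comap_primeIdealOf_appLE U hU V hV hVU hxV).1).symm⟩
  letI := Localization.AtPrime.algebraOfLiesOver p q
  let R := Localization.AtPrime p
  let S := Localization.AtPrime q
  haveI : IsNoetherianRing R := IsLocalization.isNoetherianRing p.primeCompl R inferInstance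
  haveI : IsNoetherianRing S := IsLocalization.isNoetherianRing q.primeCompl S inferInstance
  haveI : IsLocalHom (algebraMap R S) := Localization.isLocalHom_localRingHom p q _ ‹q.LiesOver p›.over
  haveI : Module.Flat R S := (Module.flat_iff_of_isLocalization R p.primeCompl S).2
    ((Unram.flat_stalkMap_iff U hU V hV hVU hxV).1 (Flat.stalkMap f x))
  haveI : Algebra.EssFiniteType R S := by
    haveI : Algebra.EssFiniteType Γ(X, V) S := Algebra.EssFiniteType.of_isLocalization S q.primeCompl
    haveI : Algebra.EssFiniteType Γ(Y, U) S := Algebra.EssFiniteType.comp Γ(Y, U) Γ(X, V) S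
    exact Algebra.EssFiniteType.of_comp Γ(Y, U) R S
  haveI : Algebra.QuasiFinite R S := RingHom.quasiFinite_algebraMap.1
    ((RingHom.QuasiFinite.respectsIso.arrow_mk_iso_iff (IsAffineOpen.arrowStalkMapIso f U hU V hV hVU hxV)).1 hq)
  haveI : Module.Finite R (S ⧸ (maximalIdeal R).map (algebraMap R S)) := by
    haveI : (maximalIdeal R).IsMaximal := maximalIdeal.isMaximal R
    haveI := Algebra.QuasiFinite.finite_fiber (R := R) (S := S) (maximalIdeal R)
    haveI : Module.Finite R (maximalIdeal R).ResidueField :=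
      Module.Finite.of_surjective (Algebra.linearMap R (maximalIdeal R).ResidueField) (Ideal.algebraMap_residueField_surjective _)
    haveI : Module.Finite R ((maximalIdeal R).Fiber S) := Module.Finite.trans (maximalIdeal R).ResidueField _
    let e₁ : (R ⧸ maximalIdeal R) ≃ₗ[R] (maximalIdeal R).ResidueField :=
      (AlgEquiv.ofBijective (IsScalarTower.toAlgHom R (R ⧸ maximalIdeal R) (maximalIdeal R).ResidueField)
        (Ideal.bijective_algebraMap_quotient_residueField _)).toLinearEquiv
    exact Module.Finite.equiv ((TensorProduct.congr e₁ (LinearEquiv.refl R S)).symm.trans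
      ((TensorProduct.quotTensorEquivQuotSMul S (maximalIdeal R)).trans
        (((Submodule.quotEquivOfEq _ _ (Ideal.smul_top_eq_map (maximalIdeal R))).trans
          (Submodule.Quotient.restrictScalarsEquiv R _)))))
  letI := X.presheaf.algebra_section_stalk ⟨x, hxV⟩
  haveI : IsLocalization.AtPrime (X.presheaf.stalk x) q := hV.isLocalization_stalk ⟨x, hxV⟩
  have hdimS : ringKrullDim S = ringKrullDim (X.presheaf.stalk x) :=
    (IsLocalization.AtPrime.ringKrullDim_eq_height q S).trans
      (IsLocalization.AtPrime.ringKrullDim_eq_height q _).symm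
  have hdim : (2 : WithBot ℕ∞) ≤ ringKrullDim S := by
    rw [hdimS]
    rw [IsLocalization.AtPrime.ringKrullDim_eq_height q] at hd ⊢
    have h1 : (1 : ℕ∞) < q.height := WithBot.coe_lt_coe.1 hd
    exact WithBot.coe_le_coe.2 (Order.add_one_le_of_lt h1)
  haveI : Algebra.FormallyUnramified R S := by
    refine formallyUnramified_of_height_one hdim fun Q hQ hQ1 => ?_
    haveI := hQ
    let q' := Q.comap (algebraMap Γ(X, V) S)
    haveI : q'.IsPrime := hQ.comap _
    have hq'q : q' ≤ q := fun z hz => by
      by_contra hzq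
      exact hQ.ne_top (Ideal.eq_top_of_isUnit_mem _ hz (IsLocalization.map_units S (⟨z, hzq⟩ : q.primeCompl)))
    let y : PrimeSpectrum Γ(X, V) := ⟨q', inferInstance⟩
    let x' : X := hV.fromSpec y
    have hx'V : x' ∈ V := by
      have : x' ∈ Set.range hV.fromSpec := ⟨y, rfl⟩
      rwa [hV.range_fromSpec] at this
    have hpi : hV.primeIdealOf ⟨x', hx'V⟩ = y :=
      hV.fromSpec.isOpenEmbedding.injective (hV.fromSpec_primeIdealOf ⟨x', hx'V⟩)
    have hspec : x' ⤳ x := by
      have := ((PrimeSpectrum.le_iff_specializes y (hV.primeIdealOf ⟨x, hxV⟩)).1 hq'q).map hV.fromSpec.continuous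
      rwa [show hV.fromSpec (hV.primeIdealOf ⟨x, hxV⟩) = x from hV.fromSpec_primeIdealOf ⟨x, hxV⟩] at this
    have hh : q'.height = 1 := by rw [← hQ1]; exact IsLocalization.height_comap q.primeCompl Q
    letI := X.presheaf.algebra_section_stalk ⟨x', hx'V⟩
    haveI : IsLocalization.AtPrime (X.presheaf.stalk x') (hV.primeIdealOf ⟨x', hx'V⟩).asIdeal := hV.isLocalization_stalk ⟨x', hx'V⟩
    have hd' : ringKrullDim (X.presheaf.stalk x') = 1 := by
      rw [IsLocalization.AtPrime.ringKrullDim_eq_height (hV.primeIdealOf ⟨x', hx'V⟩).asIdeal, hpi, show y.asIdeal.height = 1 from hh]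
      rfl
    have hu := (Unram.formallyUnramified_stalkMap_iff U hU V hV hVU hx'V).1 (hunr x' hspec hd')
    rw [hpi, Algebra.unramifiedLocus_eq_compl_support] at hu
    have hu' : ¬ Module.annihilator Γ(X, V) Ω[Γ(X, V)⁄Γ(Y, U)] ≤ q' := fun h => hu (Module.mem_support_iff_of_finite.2 h)
    obtain ⟨t, ht, htq⟩ := SetLike.not_le_iff_exists.1 hu'
    refine ⟨algebraMap Γ(X, V) S t, htq, fun ω => ?_⟩
    have hD : ∀ b, algebraMap Γ(X, V) S t • KaehlerDifferential.D R S (algebraMap Γ(X, V) S b) = 0 := fun b => by
      haveI : SMulCommClass R Γ(X, V) S := SMulCommClass.of_commMonoid R Γ(X, V) S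
      have := congrArg (KaehlerDifferential.map Γ(Y, U) R Γ(X, V) S) (Module.mem_annihilator.1 ht (KaehlerDifferential.D _ _ b))
      rwa [map_smul, map_zero, KaehlerDifferential.map_D, ← algebraMap_smul S t] at this
    have hω : ω ∈ Submodule.span S (Set.range (KaehlerDifferential.D R S)) := by
      rw [KaehlerDifferential.span_range_derivation]; trivial
    induction hω using Submodule.span_induction with
    | mem z hz =>
      obtain ⟨s, rfl⟩ := hz
      obtain ⟨⟨b, u⟩, hbu⟩ := IsLocalization.surj q.primeCompl s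
      have h2 := congrArg (fun z => algebraMap Γ(X, V) S t • KaehlerDifferential.D R S z) hbu
      simp only [Derivation.leibniz, smul_add, hD] at h2
      rw [smul_comm, hD, smul_zero, zero_add, smul_comm] at h2
      exact (IsLocalization.map_units S u).smul_eq_zero.1 h2
    | zero => exact smul_zero _
    | add a b _ _ ha hb => rw [smul_add, ha, hb, add_zero]
    | smul c a _ ha => rw [smul_comm, ha, smul_zero]
  exact (Unram.formallyUnramified_stalkMap_iff U hU V hV hVU hxV).2 (Algebra.FormallyUnramified.comp _ R S)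

end Groth.Agent.FlatPurity
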